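import Cfsg.Agent.Lib.Helper35.Fi22a.Perm
import Cfsg.Agent.Lib.Helper35.Simple3

namespace Cfsg.Agent.Lib.Helper35.Fi22Tr.X

open Cfsg.Agent.Lib.Helper35

set_option maxRecDepth 100000
noncomputable section
def wl0 : PLeaf Fi22a.pt := ⟨[0, 0, 0, 0], (fun i => (Fi22a.p0 (Fi22a.p0 (Fi22a.p0 (Fi22a.p0 i))))), fun _ => rfl⟩
def wl1 : PLeaf Fi22a.pt := ⟨[0, 2, 0, 2], (fun i => (Fi22a.p2 (Fi22a.p0 (Fi22a.p2 (Fi22a.p0 i))))), fun _ => rfl⟩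
def wl2 : PLeaf Fi22a.pt := ⟨[0, 3, 0, 3], (fun i => (Fi22a.p3 (Fi22a.p0 (Fi22a.p3 (Fi22a.p0 i))))), fun _ => rfl⟩
def wl3 : PLeaf Fi22a.pt := ⟨[0, 4, 0, 4], (fun i => (Fi22a.p4 (Fi22a.p0 (Fi22a.p4 (Fi22a.p0 i))))), fun _ => rfl⟩
def wl4 : PLeaf Fi22a.pt := ⟨[0, 5, 0, 5], (fun i => (Fi22a.p5 (Fi22a.p0 (Fi22a.p5 (Fi22a.p0 i))))), fun _ => rfl⟩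
def wl5 : PLeaf Fi22a.pt := ⟨[0, 6, 0, 6], (fun i => (Fi22a.p6 (Fi22a.p0 (Fi22a.p6 (Fi22a.p0 i))))), fun _ => rfl⟩
def wl6 : PLeaf Fi22a.pt := ⟨[0, 7, 0, 7], (fun i => (Fi22a.p7 (Fi22a.p0 (Fi22a.p7 (Fi22a.p0 i))))), fun _ => rfl⟩
def wl7 : PLeaf Fi22a.pt := ⟨[0, 8, 0, 8], (fun i => (Fi22a.p8 (Fi22a.p0 (Fi22a.p8 (Fi22a.p0 i))))), fun _ => rfl⟩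
def wl8 : PLeaf Fi22a.pt := ⟨[0, 0, 1, 2, 3, 4, 7, 0, 1, 2, 3, 4, 7, 0, 1, 2, 3, 4, 7, 0, 1, 2, 3, 4, 7, 0, 1, 2, 3, 4, 7, 0, 0, 1, 2, 3, 4, 7, 0, 1, 2, 3, 4, 7, 0, 1, 2, 3, 4, 7, 0, 1, 2, 3, 4, 7, 0, 1, 2, 3, 4, 7], (fun i => (Fi22a.p7 (Fi22a.p4 (Fi22a.p3 (Fi22a.p2 (Fi22a.p1 (Fi22a.p0 (Fi22a.p7 (Fi22a.p4 (Fi22a.p3 (Fi22a.p2 (Fi22a.p1 (Fi22a.p0 (Fi22a.p7 (Fi22a.p4 (Fi22a.p3 (Fi22a.p2 (Fi22a.p1 (Fi22a.p0 (Fi22a.p7 (Fi22a.p4 (Fi22a.p3 (Fi22a.p2 (Fi22a.p1 (Fi22a.p0 (Fi22a.p7 (Fi22a.p4 (Fi22a.p3 (Fi22a.p2 (Fi22a.p1 (Fi22a.p0 (Fi22a.p0 (Fi22a.p7 (Fi22a.p4 (Fi22a.p3 (Fi22a.p2 (Fi22a.p1 (Fi22a.p0 (Fi22a.p7 (Fi22a.p4 (Fi22a.p3 (Fi22a.p2 (Fi22a.p1 (Fi22a.p0 (Fi22a.p7 (Fi22a.p4 (Fi22a.p3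 (Fi22a.p2 (Fi22a.p1 (Fi22a.p0 (Fi22a.p7 (Fi22a.p4 (Fi22a.p3 (Fi22a.p2 (Fi22a.p1 (Fi22a.p0 (Fi22a.p7 (Fi22a.p4 (Fi22a.p3 (Fi22a.p2 (Fi22a.p1 (Fi22a.p0 (Fi22a.p0 i))))))))))))))))))))))))))))))))))))))))))))))))))))))))))))))), fun _ => rfl⟩
def wl9 : PLeaf Fi22a.pt := ⟨[0, 1, 2, 3, 4, 7, 0, 1, 2, 3, 4, 7, 0, 1, 2, 3, 4, 7, 0, 1, 2, 3, 4, 7, 0, 1, 2, 3, 4, 7, 0, 1, 2, 3, 4, 7, 0, 1, 2, 3, 4, 7, 0, 1, 2, 3, 4, 7, 0, 1, 2, 3, 4, 7, 0, 1, 2, 3, 4, 7], (fun i => (Fi22a.p7 (Fi22a.p4 (Fi22a.p3 (Fi22a.p2 (Fi22a.p1 (Fi22a.p0 (Fi22a.p7 (Fi22a.p4 (Fi22a.p3 (Fi22a.p2 (Fi22a.p1 (Fi22a.p0 (Fi22a.p7 (Fi22a.p4 (Fi22a.p3 (Fi22a.p2 (Fi22a.p1 (Fi22a.p0 (Fi22a.p7 (Fi22a.p4 (Fi22a.p3 (Fi22a.p2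 (Fi22a.p1 (Fi22a.p0 (Fi22a.p7 (Fi22a.p4 (Fi22a.p3 (Fi22a.p2 (Fi22a.p1 (Fi22a.p0 (Fi22a.p7 (Fi22a.p4 (Fi22a.p3 (Fi22a.p2 (Fi22a.p1 (Fi22a.p0 (Fi22a.p7 (Fi22a.p4 (Fi22a.p3 (Fi22a.p2 (Fi22a.p1 (Fi22a.p0 (Fi22a.p7 (Fi22a.p4 (Fi22a.p3 (Fi22a.p2 (Fi22a.p1 (Fi22a.p0 (Fi22a.p7 (Fi22a.p4 (Fi22a.p3 (Fi22a.p2 (Fi22a.p1 (Fi22a.p0 (Fi22a.p7 (Fi22a.p4 (Fi22a.p3 (Fi22a.p2 (Fi22a.p1 (Fi22a.p0 i))))))))))))))))))))))))))))))))))))))))))))))))))))))))))))), fun _ => rfl⟩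
def wl10 : PLeaf Fi22a.pt := ⟨[1, 2, 0, 1, 1, 0, 2, 1], (fun i => (Fi22a.p1 (Fi22a.p2 (Fi22a.p0 (Fi22a.p1 (Fi22a.p1 (Fi22a.p0 (Fi22a.p2 (Fi22a.p1 i))))))))), fun _ => rfl⟩
def wl11 : PLeaf Fi22a.pt := ⟨[0, 1, 0, 1, 0, 1, 0, 1, 0, 1, 0, 1], (fun i => (Fi22a.p1 (Fi22a.p0 (Fi22a.p1 (Fi22a.p0 (Fi22a.p1 (Fi22a.p0 (Fi22a.p1 (Fi22a.p0 (Fi22a.p1 (Fi22a.p0 (Fi22a.p1 (Fi22a.p0 i))))))))))))), fun _ => rfl⟩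
def wl12 : PLeaf Fi22a.pt := ⟨[0, 1, 2, 0, 1, 0, 1, 0, 2, 1, 0, 1, 2, 0, 1, 0, 1, 0, 2, 1], (fun i => (Fi22a.p1 (Fi22a.p2 (Fi22a.p0 (Fi22a.p1 (Fi22a.p0 (Fi22a.p1 (Fi22a.p0 (Fi22a.p2 (Fi22a.p1 (Fi22a.p0 (Fi22a.p1 (Fi22a.p2 (Fi22a.p0 (Fi22a.p1 (Fi22a.p0 (Fi22a.p1 (Fi22a.p0 (Fi22a.p2 (Fi22a.p1 (Fi22a.p0 i))))))))))))))))))))), fun _ => rfl⟩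
def wls : List (PLeaf Fi22a.pt) := [wl0, wl1, wl2, wl3, wl4, wl5, wl6, wl7, wl8, wl9, wl10, wl11, wl12]
noncomputable def fw (i : Nat) : Bool := fixAll wls i

end

end Cfsg.Agent.Lib.Helper35.Fi22Tr.X
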